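/-
Counting lines of a finite polar space given by a symmetric "perp" relation.
-/
import Mathlib

set_option autoImplicit false

namespace CfsgLib.PolarSpace

open Module

variable {F V : Type*} [Field F] [Finite F] [AddCommGroup V] [Module F V] [FiniteDimensional F V]

theorem card_sigma_const {α : Type*} [Finite α] {β : α → Type*} [∀ a, Finite (β a)] {k : ℕ}
    (h : ∀ a, Nat.card (β a) = k) : Nat.card (Σ a, β a) = Nat.card α * k := by
  classical
  have := Fintype.ofFinite α
  rw [Nat.card_sigma, Finset.sum_congr rfl fun a _ => h a, Finset.sum_const, Finset.card_univ,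
    smul_eq_mul, Nat.card_eq_fintype_card]

theorem card_nonzero (W : Submodule F V) :
    Nat.card {w : W // w ≠ 0} = Nat.card F ^ finrank F W - 1 := by
  classical
  have := Module.finite_of_finite F (M := V)
  have := Fintype.ofFinite W
  rw [Nat.card_eq_fintype_card, Fintype.card_subtype_compl, Fintype.card_subtype_eq,
    ← Nat.card_eq_fintype_card, natCard_eq_pow_finrank (K := F)]

theorem span_pair_perp (perp : V → Submodule F V) (hsymm : ∀ u v, u ∈ perp v → v ∈ perp u) {v w : V}
    (hv : v ∈ perp v) (hw : w ∈ perp w) (hwv : w ∈ perp v) :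
    ∀ x ∈ Submodule.span F {v, w}, ∀ y ∈ Submodule.span F {v, w}, x ∈ perp y := by
  have h1 : Submodule.span F {v, w} ≤ perp v :=
    Submodule.span_le.2 (Set.insert_subset hv (Set.singleton_subset_iff.2 hwv))
  have h2 : Submodule.span F {v, w} ≤ perp w :=
    Submodule.span_le.2 (Set.insert_subset (hsymm _ _ hwv) (Set.singleton_subset_iff.2 hw))
  intro x hx y hy
  have h3 : Submodule.span F {v, w} ≤ perp y :=
    Submodule.span_le.2 (Set.insert_subset (hsymm _ _ (h1 hy)) (Set.singleton_subset_iff.2 (hsymm _ _ (h2 hy))))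
  exact h3 hx

theorem finrank_span_pair {v w : V} (hv : v ≠ 0) (hw : w ∉ Submodule.span F {v}) :
    finrank F (Submodule.span F {v, w}) = 2 := by
  have hinf : Submodule.span F {v} ⊓ Submodule.span F {w} = ⊥ := by
    rw [eq_bot_iff]
    rintro x ⟨hx1, hx2⟩
    obtain ⟨t, rfl⟩ := Submodule.mem_span_singleton.1 hx2
    rcases eq_or_ne t 0 with rfl | ht
    · simp
    · exact absurd (by simpa [smul_smul, inv_mul_cancel₀ ht] using Submodule.smul_mem _ t⁻¹ hx1) hw
  have hw0 : w ≠ 0 := fun h => hw (h ▸ Submodule.zero_mem _)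
  have h := Submodule.finrank_sup_add_finrank_inf_eq (Submodule.span F {v}) (Submodule.span F {w})
  rw [hinf, finrank_bot, finrank_span_singleton hv, finrank_span_singleton hw0, ← Submodule.span_union,
    Set.singleton_union] at h
  simpa using h

/-- counting the lines through a point: the singular vectors of the perp outside the point are split into the
lines through it -/
theorem lines_through (perp : V → Submodule F V) (hsymm : ∀ u v, u ∈ perp v → v ∈ perp u) {v : V}
    (hv0 : v ≠ 0) (hv : v ∈ perp v) :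
    Nat.card {W : Submodule F V // finrank F W = 2 ∧ v ∈ W ∧ ∀ x ∈ W, ∀ y ∈ W, x ∈ perp y} *
        (Nat.card F ^ 2 - Nat.card F) + Nat.card F =
      Nat.card {w : V // w ∈ perp w ∧ w ∈ perp v} := by
  classical
  have := Module.finite_of_finite F (M := V)
  have := Fintype.ofFinite V
  set T := {W : Submodule F V // finrank F W = 2 ∧ v ∈ W ∧ ∀ x ∈ W, ∀ y ∈ W, x ∈ perp y}
  set A := {w : V // w ∈ perp w ∧ w ∈ perp v}
  have hfib : ∀ W : T, Nat.card {w : W.1 // w.1 ∉ Submodule.span F {v}} = Nat.card F ^ 2 - Nat.card F := by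
    intro W
    have := Fintype.ofFinite W.1
    rw [Nat.card_eq_fintype_card, Fintype.card_subtype_compl, ← Nat.card_eq_fintype_card,
      natCard_eq_pow_finrank (K := F), W.2.1]
    congr 1
    rw [← Nat.card_eq_fintype_card]
    have e' : {w : W.1 // w.1 ∈ Submodule.span F {v}} ≃ Submodule.span F {v} :=
      { toFun := fun w => ⟨w.1.1, w.2⟩
        invFun := fun x => ⟨⟨x.1, (Submodule.span_singleton_le_iff_mem _ _).2 W.2.2.1 x.2⟩, x.2⟩
        left_inv := fun w => rfl
        right_inv := fun x => rfl }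
    rw [Nat.card_congr e', natCard_eq_pow_finrank (K := F), finrank_span_singleton hv0, pow_one]
  have e : (Σ W : T, {w : W.1 // w.1 ∉ Submodule.span F {v}}) ≃ {a : A // a.1 ∉ Submodule.span F {v}} :=
    { toFun := fun p => ⟨⟨p.2.1.1, p.1.2.2.2 _ p.2.1.2 _ p.2.1.2, p.1.2.2.2 _ p.2.1.2 _ p.1.2.2.1⟩, p.2.2⟩
      invFun := fun a => ⟨⟨Submodule.span F {v, a.1.1}, finrank_span_pair hv0 a.2,
          Submodule.subset_span (Set.mem_insert _ _), span_pair_perp perp hsymm hv a.1.2.1 a.1.2.2⟩,
        ⟨⟨a.1.1, Submodule.subset_span (Set.mem_insert_of_mem _ rfl)⟩, a.2⟩⟩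
      left_inv := fun p => by
        obtain ⟨⟨W, hW2, hvW, hW⟩, ⟨⟨w, hwW⟩, hw⟩⟩ := p
        have hsp : Submodule.span F {v, w} = W :=
          Submodule.eq_of_le_of_finrank_eq
            (Submodule.span_le.2 (Set.insert_subset hvW (Set.singleton_subset_iff.2 hwW)))
            ((finrank_span_pair hv0 hw).trans hW2.symm)
        subst hsp
        rfl
      right_inv := fun a => rfl }
  have h1 := card_sigma_const hfib
  rw [Nat.card_congr e] at h1
  have := Fintype.ofFinite A
  have hsplit : Fintype.card A = Fintype.card {a : A // a.1 ∈ Submodule.span F {v}} +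
      Fintype.card {a : A // a.1 ∉ Submodule.span F {v}} := by
    rw [Fintype.card_subtype_compl]
    have := Fintype.card_subtype_le (fun a : A => a.1 ∈ Submodule.span F {v})
    omega
  have hv' : Nat.card {a : A // a.1 ∈ Submodule.span F {v}} = Nat.card F := by
    rw [← pow_one (Nat.card F), ← finrank_span_singleton (K := F) hv0, ← natCard_eq_pow_finrank (K := F)]
    refine Nat.card_congr
      { toFun := fun a => ⟨a.1.1, a.2⟩
        invFun := fun x => ⟨⟨x.1, ?_, (Submodule.span_singleton_le_iff_mem _ _).2 hv x.2⟩, x.2⟩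
        left_inv := fun a => rfl
        right_inv := fun x => rfl }
    obtain ⟨t, ht⟩ := Submodule.mem_span_singleton.1 x.2
    rw [← ht]
    exact Submodule.smul_mem _ t
      (hsymm _ _ ((Submodule.span_singleton_le_iff_mem _ _).2 hv (Submodule.mem_span_singleton.2 ⟨t, rfl⟩)))
  simp only [← Nat.card_eq_fintype_card] at hsplit
  rw [hsplit, hv', h1]
  ring

/-- the number of lines from the number of singular points and of lines through each -/
theorem lines_total (perp : V → Submodule F V) {N I : ℕ}
    (hI : Nat.card {v : V // v ∈ perp v} = I + 1) (h0 : (0 : V) ∈ perp 0)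
    (hN : ∀ v : V, v ≠ 0 → v ∈ perp v →
      Nat.card {W : Submodule F V // finrank F W = 2 ∧ v ∈ W ∧ ∀ x ∈ W, ∀ y ∈ W, x ∈ perp y} = N) :
    Nat.card {W : Submodule F V // finrank F W = 2 ∧ ∀ x ∈ W, ∀ y ∈ W, x ∈ perp y} *
      (Nat.card F ^ 2 - 1) = I * N := by
  classical
  have := Module.finite_of_finite F (M := V)
  have := Fintype.ofFinite V
  set T := {W : Submodule F V // finrank F W = 2 ∧ ∀ x ∈ W, ∀ y ∈ W, x ∈ perp y}
  set P := {v : V // v ≠ 0 ∧ v ∈ perp v}
  have hP : Nat.card P = I := by
    have : Nat.card P + 1 = Nat.card {v : V // v ∈ perp v} := by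
      rw [← Finite.card_option]
      exact Nat.card_congr
        { toFun := fun o => o.elim ⟨0, h0⟩ fun p => ⟨p.1, p.2.2⟩
          invFun := fun v => if h : v.1 = 0 then none else some ⟨v.1, h, v.2⟩
          left_inv := fun o => by
            cases o with
            | none => simp
            | some p => simp [p.2.1]
          right_inv := fun v => by
            by_cases h : v.1 = 0
            · simp [h, Subtype.ext_iff]
            · simp [h] }
    omega
  have e : (Σ W : T, {w : W.1 // w ≠ 0}) ≃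
      (Σ v : P, {W : Submodule F V // finrank F W = 2 ∧ v.1 ∈ W ∧ ∀ x ∈ W, ∀ y ∈ W, x ∈ perp y}) :=
    { toFun := fun p => ⟨⟨p.2.1.1, fun h => p.2.2 (Subtype.ext h), p.1.2.2 _ p.2.1.2 _ p.2.1.2⟩,
        ⟨p.1.1, p.1.2.1, p.2.1.2, p.1.2.2⟩⟩
      invFun := fun p => ⟨⟨p.2.1, p.2.2.1, p.2.2.2.2⟩, ⟨p.1.1, p.2.2.2.1⟩,
        fun h => p.1.2.1 (congrArg Subtype.val h)⟩
      left_inv := fun p => rfl
      right_inv := fun p => rfl }
  have h1 := card_sigma_const (fun W : T => (card_nonzero W.1).trans (by rw [W.2.1]))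
  have h2 := card_sigma_const (fun v : P => hN v.1 v.2.1 v.2.2)
  rw [Nat.card_congr e, h2, hP] at h1
  exact h1.symm

end CfsgLib.PolarSpace
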