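/-
Isotropic vectors orthogonal to an isotropic vector, and the lines of a unitary polar space.
-/
import Cfsg.Agent.Lib.PolarSpace.Lines
import Cfsg.Agent.Lib.ClassicalGroups.HermCount

set_option autoImplicit false

namespace CfsgLib.PolarSpace

open Polynomial CfsgLib.ClassicalGroups

variable {F : Type*} [Field F] [Fintype F] {q : ℕ}

theorem card_pow_add_le (hq : 2 ≤ q) (a b : F) :
    Nat.card {x : F // x ^ q + a * x + b = 0} ≤ q := by
  classical
  rw [Nat.card_eq_fintype_card, Fintype.card_subtype]
  have hd : (C a * X + C b).natDegree ≤ 1 := by compute_degree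
  have hdeg : (X ^ q + (C a * X + C b) : F[X]).natDegree = q := by
    rw [natDegree_add_eq_left_of_natDegree_lt] <;> rw [natDegree_X_pow]
    omega
  refine (card_le_degree_of_subset_roots (p := X ^ q + (C a * X + C b)) (fun x hx => ?_)).trans hdeg.le
  simp only [Finset.mem_val, Finset.mem_filter, Finset.mem_univ, true_and] at hx
  have hne : (X ^ q + (C a * X + C b) : F[X]) ≠ 0 := fun h => by rw [h, natDegree_zero] at hdeg; omega
  rw [mem_roots hne]
  simp only [IsRoot.def, eval_add, eval_pow, eval_X, eval_mul, eval_C]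
  linear_combination hx

/-- every element of the fixed field is a trace, of exactly `q` elements -/
theorem card_trace_fibre (hF : Fintype.card F = q ^ 2) {d : F} (hd : d ^ q = d) :
    Nat.card {x : F // x + x ^ q = d} = q := by
  classical
  have hq := herm_two_le hF
  let T : F →+ F :=
    { toFun := fun x => x + x ^ q
      map_zero' := by simp [zero_pow (show q ≠ 0 by omega)]
      map_add' := fun x y => by
        rw [← hermConj_apply hF, map_add, hermConj_apply, hermConj_apply]; ring }
  let K : AddSubgroup F := AddSubgroup.closure {x : F | x ^ q = x}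
  have hker : Nat.card T.ker ≤ q := by
    refine le_trans (le_of_eq (Nat.card_congr (Equiv.subtypeEquivRight fun x => ?_)))
      (card_pow_add_le hq 1 0)
    show x + x ^ q = 0 ↔ _
    rw [one_mul, add_zero, add_comm]
  have hKset : ∀ x : F, x ∈ T.range → x ^ q = x := by
    rintro _ ⟨x, rfl⟩
    show (x + x ^ q) ^ q = x + x ^ q
    rw [← hermConj_apply hF, map_add, hermConj_apply, hermConj_apply, hermConj_conj hF, add_comm]
  have hfix : Nat.card {x : F // x ^ q = x} ≤ q := by
    refine le_trans (le_of_eq (Nat.card_congr (Equiv.subtypeEquivRight fun x => ?_)))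
      (card_pow_add_le hq (-1) 0)
    rw [add_zero, neg_one_mul, ← sub_eq_add_neg, sub_eq_zero]
  have hrange : Nat.card T.range ≤ Nat.card {x : F // x ^ q = x} :=
    Nat.card_le_card_of_injective (fun x => ⟨x.1, hKset x.1 x.2⟩)
      (fun x y h => Subtype.ext (congrArg (fun z : {x : F // x ^ q = x} => z.1) h))
  have hprod : Nat.card T.ker * Nat.card T.range = q * q := by
    rw [← pow_two, ← hF, ← Nat.card_eq_fintype_card, ← AddSubgroup.index_ker, AddSubgroup.card_mul_index]
  have hr : Nat.card T.range ≤ q := hrange.trans hfix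
  have hkq : Nat.card T.ker = q := by
    refine le_antisymm hker ?_
    have h := Nat.mul_le_mul_left (Nat.card T.ker) hr
    rw [hprod] at h
    exact Nat.le_of_mul_le_mul_right h (by omega)
  have hrq : Nat.card T.range = q := by
    rw [hkq] at hprod
    exact Nat.eq_of_mul_eq_mul_left (by omega) hprod
  have hdT : d ∈ T.range := by
    by_contra hdn
    have hlt : Nat.card T.range < Nat.card {x : F // x ^ q = x} := by
      rw [Nat.card_eq_fintype_card, Nat.card_eq_fintype_card]
      refine Fintype.card_lt_of_injective_of_notMem (fun x => ⟨x.1, hKset x.1 x.2⟩)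
        (fun x y h => Subtype.ext (congrArg (fun z : {x : F // x ^ q = x} => z.1) h)) (b := ⟨d, hd⟩) ?_
      rintro ⟨x, hx⟩
      have e : x.1 = d := congrArg Subtype.val hx
      exact hdn (e ▸ x.2)
    omega
  obtain ⟨x₀, hx₀⟩ := hdT
  conv_rhs => rw [← hkq]
  refine Nat.card_congr
    { toFun := fun x => ⟨x.1 - x₀, by
        have h1 : T x.1 = d := x.2
        rw [AddMonoidHom.mem_ker, map_sub, h1, hx₀, sub_self]⟩
      invFun := fun y => ⟨y.1 + x₀, by
        show T (y.1 + x₀) = d
        rw [map_add, (AddMonoidHom.mem_ker).1 y.2, hx₀, zero_add]⟩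
      left_inv := fun x => Subtype.ext (sub_add_cancel _ _)
      right_inv := fun y => Subtype.ext (add_sub_cancel_right _ _) }

variable (n : ℕ)

/-- the hyperplane orthogonal to `v` -/
def hermPerp (q : ℕ) (v : Fin n → F) : Submodule F (Fin n → F) :=
  LinearMap.ker
    ({ toFun := fun u => Cfsg.hermForm n F q u v
       map_add' := fun u u' => hermForm_add_left n u u' v
       map_smul' := fun c u => hermForm_smul_left n c u v } : (Fin n → F) →ₗ[F] F)

theorem mem_hermPerp {u v : Fin n → F} : u ∈ hermPerp n q v ↔ Cfsg.hermForm n F q u v = 0 := Iff.rfl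

theorem hermPerp_symm (hF : Fintype.card F = q ^ 2) (u v : Fin n → F) (h : u ∈ hermPerp n q v) :
    v ∈ hermPerp n q u := by
  have hq := herm_two_le hF
  rw [mem_hermPerp] at h ⊢
  rw [hermForm_symm hF, h, zero_pow (by omega)]

theorem card_iso_perp (hF : Fintype.card F = q ^ 2) {v : Fin n → F} (hv0 : v ≠ 0) (hv : v ∈ hermPerp n q v) :
    q * Nat.card {w : Fin n → F // w ∈ hermPerp n q w ∧ w ∈ hermPerp n q v} + (Nat.card F ^ n - Nat.card F ^ (n - 1)) =
      q * Nat.card {w : Fin n → F // w ∈ hermPerp n q w} := by
  classical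
  have hq := herm_two_le hF
  rw [mem_hermPerp] at hv
  set B := {w : Fin n → F // w ∈ hermPerp n q w ∧ w ∉ hermPerp n q v}
  set C := {w : Fin n → F // w ∉ hermPerp n q v}
  have hnorm : ∀ (w : Fin n → F) (c : F), Cfsg.hermForm n F q (w + c • v) (w + c • v) =
      Cfsg.hermForm n F q w w + (c ^ q * Cfsg.hermForm n F q w v + (c ^ q * Cfsg.hermForm n F q w v) ^ q) := by
    intro w c
    have e : Cfsg.hermForm n F q w (w + c • v) =
        Cfsg.hermForm n F q w w + c ^ q * Cfsg.hermForm n F q w v := by
      rw [hermForm_symm hF n (w + c • v) w, hermForm_add_left, hermForm_smul_left, ← hermConj_apply hF,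
        map_add, map_mul, hermConj_apply, hermConj_apply, hermConj_apply, ← hermForm_symm hF,
        ← hermForm_symm hF n v w]
    have e' : Cfsg.hermForm n F q v (w + c • v) = (Cfsg.hermForm n F q w v) ^ q := by
      rw [hermForm_symm hF n (w + c • v) v, hermForm_add_left, hermForm_smul_left, hv, mul_zero, add_zero]
    rw [hermForm_add_left, hermForm_smul_left, e, e', mul_pow, hermConj_conj hF]
    ring
  have hfib : ∀ w : C, Nat.card {c : F // w.1 + c • v ∈ hermPerp n q (w.1 + c • v)} = q := by
    intro w
    have ha : Cfsg.hermForm n F q w.1 v ≠ 0 := w.2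
    set a := Cfsg.hermForm n F q w.1 v with hadef
    set d := -Cfsg.hermForm n F q w.1 w.1
    have hd : d ^ q = d := by
      rw [← hermConj_apply hF, map_neg, hermConj_apply, hermForm_self_conj hF]
    conv_rhs => rw [← card_trace_fibre hF hd]
    refine Nat.card_congr
      { toFun := fun c => ⟨c.1 ^ q * a, by
          have h := c.2
          rw [mem_hermPerp, hnorm] at h
          simp only [d]
          linear_combination h⟩
        invFun := fun x => ⟨(x.1 / a) ^ q, by
          rw [mem_hermPerp, hnorm, hermConj_conj hF, div_mul_cancel₀ _ ha]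
          have h := x.2
          simp only [d] at h
          linear_combination h⟩
        left_inv := fun c => Subtype.ext (by
          show (c.1 ^ q * a / a) ^ q = c.1
          rw [mul_div_cancel_right₀ _ ha, hermConj_conj hF])
        right_inv := fun x => Subtype.ext (by
          show ((x.1 / a) ^ q) ^ q * a = x.1
          rw [hermConj_conj hF, div_mul_cancel₀ _ ha]) }
  have hshift : ∀ (w : Fin n → F) (c : F), w + c • v ∈ hermPerp n q v ↔ w ∈ hermPerp n q v := fun w c => by
    rw [mem_hermPerp, mem_hermPerp, hermForm_add_left, hermForm_smul_left, hv, mul_zero, add_zero]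
  have e : (Σ w : C, {c : F // w.1 + c • v ∈ hermPerp n q (w.1 + c • v)}) ≃ B × F :=
    { toFun := fun p => (⟨p.1.1 + p.2.1 • v, p.2.2, fun h => p.1.2 ((hshift _ _).1 h)⟩, p.2.1)
      invFun := fun p => ⟨⟨p.1.1 + (-p.2) • v, fun h => p.1.2.2 ((hshift _ _).1 h)⟩, p.2, by
        rw [show p.1.1 + (-p.2) • v + p.2 • v = p.1.1 by module]; exact p.1.2.1⟩
      left_inv := fun p => by
        refine Sigma.subtype_ext (Subtype.ext ?_) rfl
        show p.1.1 + p.2.1 • v + (-p.2.1) • v = p.1.1
        module
      right_inv := fun p => by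
        refine Prod.ext (Subtype.ext ?_) rfl
        show p.1.1 + (-p.2) • v + p.2 • v = p.1.1
        module }
  have h1 := card_sigma_const hfib
  rw [Nat.card_congr e, Nat.card_prod, Nat.card_eq_fintype_card (α := F), hF] at h1
  -- `C` is the complement of a hyperplane
  have hCcard : Nat.card C = Nat.card F ^ n - Nat.card F ^ (n - 1) := by
    have hfin : Module.finrank F (hermPerp n q v) = n - 1 := by
      let φ : (Fin n → F) →ₗ[F] F :=
        { toFun := fun u => Cfsg.hermForm n F q u v
          map_add' := fun u u' => hermForm_add_left n u u' v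
          map_smul' := fun c u => hermForm_smul_left n c u v }
      have hne : φ ≠ 0 := by
        intro h0
        obtain ⟨i, hi⟩ := Function.ne_iff.1 hv0
        have h2 : Cfsg.hermForm n F q (Pi.single i 1) v = 0 := LinearMap.congr_fun h0 _
        rw [hermForm_symm hF n v (Pi.single i 1), hermForm_single_right hF] at h2
        exact hi (eq_zero_of_pow_eq_zero h2)
      have hrange : LinearMap.range φ = ⊤ := LinearMap.range_eq_top.2 (LinearMap.surjective hne)
      have h3 := LinearMap.finrank_range_add_finrank_ker φ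
      rw [hrange, finrank_top, Module.finrank_self, Module.finrank_fintype_fun_eq_card, Fintype.card_fin] at h3
      show Module.finrank F (LinearMap.ker φ) = n - 1
      omega
    rw [← hfin, ← Module.natCard_eq_pow_finrank (K := F) (V := hermPerp n q v), Nat.card_eq_fintype_card,
      Nat.card_eq_fintype_card, Nat.card_eq_fintype_card, Fintype.card_subtype_compl,
      Fintype.card_fun, Fintype.card_fin]
  have hsplit : Nat.card {w : Fin n → F // w ∈ hermPerp n q w} =
      Nat.card {w : Fin n → F // w ∈ hermPerp n q w ∧ w ∈ hermPerp n q v} + Nat.card B := by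
    rw [← Nat.card_sum]
    refine Nat.card_congr
      { toFun := fun w => if h : w.1 ∈ hermPerp n q v then Sum.inl ⟨w.1, w.2, h⟩ else Sum.inr ⟨w.1, w.2, h⟩
        invFun := fun s => s.elim (fun w => ⟨w.1, w.2.1⟩) (fun w => ⟨w.1, w.2.1⟩)
        left_inv := fun w => by by_cases h : w.1 ∈ hermPerp n q v <;> simp [h]
        right_inv := fun s => by
          rcases s with w | w
          · simp [w.2.2]
          · simp [w.2.2] }
  rw [hsplit, Nat.mul_add, ← hCcard]
  congr 1
  have : Nat.card B * q = Nat.card C := Nat.eq_of_mul_eq_mul_right (show 0 < q by omega) (by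
    rw [mul_assoc, ← pow_two]; exact h1)
  rw [← this, mul_comm]

theorem lines_total_herm (hF : Fintype.card F = q ^ 2) {A N : ℕ}
    (hA : ∀ v : Fin n → F, v ≠ 0 → v ∈ hermPerp n q v →
      q * Nat.card {w : Fin n → F // w ∈ hermPerp n q w ∧ w ∈ hermPerp n q v} = A)
    (hN : q * (N * ((q ^ 2) ^ 2 - q ^ 2) + q ^ 2) = A) {I : ℕ}
    (hI : Nat.card {w : Fin n → F // Cfsg.hermForm n F q w w = 0} = I + 1) :
    Nat.card {W : Submodule F (Fin n → F) // Module.finrank F W = 2 ∧
      ∀ u ∈ W, ∀ v ∈ W, Cfsg.hermForm n F q u v = 0} * ((q ^ 2) ^ 2 - 1) = I * N := by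
  have hq := herm_two_le hF
  have hcard : Nat.card F = q ^ 2 := by rw [Nat.card_eq_fintype_card, hF]
  have hI' : Nat.card {v : Fin n → F // v ∈ hermPerp n q v} = I + 1 := by
    rw [← hI]
    exact Nat.card_congr (Equiv.subtypeEquivRight fun v => mem_hermPerp n)
  have h := lines_total (F := F) (V := Fin n → F) (N := N) (I := I) (hermPerp n q) hI'
    (Submodule.zero_mem (hermPerp n q (0 : Fin n → F))) fun v hv0 hv => by
    have h2 := lines_through (hermPerp n q) (hermPerp_symm n hF) hv0 hv
    rw [hcard] at h2
    have h3 := hA v hv0 hv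
    rw [← h2, ← hN] at h3
    have h4 : 0 < (q ^ 2) ^ 2 - q ^ 2 := by
      have h5 : 1 < q ^ 2 := by nlinarith
      have h6 : q ^ 2 < (q ^ 2) ^ 2 := by nlinarith
      omega
    exact Nat.eq_of_mul_eq_mul_right h4 (Nat.add_right_cancel (Nat.eq_of_mul_eq_mul_left (by omega) h3))
  rw [hcard] at h
  refine Eq.trans (congrArg (· * _) (Nat.card_congr (Equiv.subtypeEquivRight fun W => ?_))) h
  exact and_congr_right fun _ => forall₄_congr fun u _ v _ => (mem_hermPerp n).symm

end CfsgLib.PolarSpace
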